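import Cfsg.Agent.S2758
import Cfsg.Prelude.Def_LocalEven
import Mathlib.GroupTheory.SpecificGroups.Dihedral

/-!
# Sections isomorphic to the symmetric group of degree 3

* `dihedralThree`: the dihedral group of order 6 is the symmetric group of degree 3
* `involves_three_of_inverted`: an element of order 3 inverted by some element gives a section
* `involves_three_of_normalizer`: a 2-element moving a 3-subgroup that it normalises gives a section
-/

set_option autoImplicit false

namespace Cfsg.Agent.SquareBound

open Subgroup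

/-- The dihedral group of order 6 as permutations of three points. -/
def dihedralThreeFun : DihedralGroup 3 → Equiv.Perm (Fin 3)
  | DihedralGroup.r i => finRotate 3 ^ i.val
  | DihedralGroup.sr i => Equiv.swap 1 2 * finRotate 3 ^ i.val

/-- The isomorphism of the dihedral group of order 6 with the symmetric group of degree 3. -/
noncomputable def dihedralThree : DihedralGroup 3 ≃* Equiv.Perm (Fin 3) :=
  MulEquiv.ofBijective (MonoidHom.mk' dihedralThreeFun (by decide))
    (by show Function.Bijective dihedralThreeFun; decide)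

variable {G : Type*} [Group G]

theorem involves_three_of_dihedral (h : Cfsg.Involves (DihedralGroup 3) G) :
    Cfsg.Involves (Equiv.Perm (Fin 3)) G := by
  obtain ⟨K, R, hR, ⟨e⟩⟩ := h
  exact ⟨K, R, hR, ⟨e.trans dihedralThree⟩⟩

variable [Finite G]

/-- A 2-element normalising but not centralising a 3-subgroup gives a section of degree 3. -/
theorem involves_three_of_normalizer {x : G} {P : Subgroup G} (hx : ∃ k, orderOf x = 2 ^ k)
    (hP : IsPGroup 3 P) (hxP : x ∈ normalizer (P : Set G)) (hxC : x ∉ centralizer (P : Set G)) :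
    Cfsg.Involves (Equiv.Perm (Fin 3)) G := by
  haveI : Fact (Nat.Prime 3) := ⟨Nat.prime_three⟩
  exact involves_three_of_dihedral
    ((Cfsg.Agent.S2758.result (p := 3) (by norm_num)).1.2 ⟨x, P, hx, hP, hxP, hxC⟩)

/-- An element of order 3 inverted by some element gives a section of degree 3. -/
theorem involves_three_of_inverted {y w : G} (hy3 : y ^ 3 = 1) (hy : y ≠ 1)
    (hw : w * y * w⁻¹ = y⁻¹) : Cfsg.Involves (Equiv.Perm (Fin 3)) G := by
  haveI : Fact (Nat.Prime 3) := ⟨Nat.prime_three⟩
  set n := orderOf w with hn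
  set m := n / 2 ^ n.factorization 2 with hm
  have hodd : Odd m := by
    rw [← Nat.not_even_iff_odd, even_iff_two_dvd]
    exact Nat.not_dvd_ordCompl Nat.prime_two (orderOf_pos w).ne'
  have hx2 : ∃ k, orderOf (w ^ m) = 2 ^ k := by
    have h1 : orderOf (w ^ m) ∣ 2 ^ n.factorization 2 := orderOf_dvd_of_pow_eq_one (by
      rw [← pow_mul, mul_comm, Nat.ordProj_mul_ordCompl_eq_self, hn, pow_orderOf_eq_one])
    obtain ⟨k, -, hk⟩ := (Nat.dvd_prime_pow Nat.prime_two).1 h1
    exact ⟨k, hk⟩
  have hinv : ∀ j : ℕ, w ^ j * y * (w ^ j)⁻¹ = if Even j then y else y⁻¹ := by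
    intro j
    induction j with
    | zero => simp
    | succ j ih =>
      rw [pow_succ', show w * w ^ j * y * (w * w ^ j)⁻¹ = w * (w ^ j * y * (w ^ j)⁻¹) * w⁻¹ by group, ih]
      by_cases hj : Even j
      · rw [if_pos hj, if_neg (by simp [hj, Nat.even_add_one]), hw]
      · rw [if_neg hj, if_pos (by simp [hj, Nat.even_add_one]), ← conj_inv, hw, inv_inv]
  have hwm : w ^ m * y * (w ^ m)⁻¹ = y⁻¹ := by
    rw [hinv, if_neg (Nat.not_even_iff_odd.2 hodd)]
  have hy3' : orderOf y = 3 := orderOf_eq_prime hy3 hy
  exact involves_three_of_dihedral ((Cfsg.Agent.S2758.result (p := 3) (by norm_num)).2.2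
    ⟨w ^ m, y, hx2, ⟨1, by rw [hy3', pow_one]⟩, hy, hwm⟩)

end Cfsg.Agent.SquareBound
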